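import Mathlib

/-!
# Bounds uniform in the points of a Noetherian ring
-/

set_option autoImplicit false
set_option linter.style.haveILetI false

universe u

open MvPolynomial

namespace Groth.Agent.H1Radical

/-- A bound which exists near the generic point of every closed irreducible set exists globally. -/
theorem exists_bound {A : Type u} [CommRing A] [IsNoetherianRing A]
    (P : ℕ → ∀ (k : Type u) [Field k], (A →+* k) → Prop)
    (mono : ∀ {R R' : ℕ}, R ≤ R' → ∀ (k : Type u) [Field k] (φ : A →+* k), P R k φ → P R' k φ)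
    (generic : ∀ p : Ideal A, p.IsPrime → ∃ c ∉ p, ∃ R, ∀ (k : Type u) [Field k] (φ : A →+* k),
      p ≤ RingHom.ker φ → φ c ≠ 0 → P R k φ) :
    ∃ R, ∀ (k : Type u) [Field k] (φ : A →+* k), P R k φ := by
  suffices H : ∀ I : Ideal A, ∃ R, ∀ (k : Type u) [Field k] (φ : A →+* k), I ≤ RingHom.ker φ → P R k φ by
    obtain ⟨R, hR⟩ := H ⊥
    exact ⟨R, fun k _ φ => hR k φ bot_le⟩
  intro I
  induction I using WellFoundedGT.induction with
  | ind I ih =>
    by_cases hI : I.IsPrime
    · obtain ⟨c, hc, R₁, h₁⟩ := generic I hI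
      obtain ⟨R₂, h₂⟩ := ih (I ⊔ Ideal.span {c}) (lt_of_le_of_ne le_sup_left fun h =>
        hc (h.ge (le_sup_right (α := Ideal A) (Ideal.mem_span_singleton_self c))))
      refine ⟨max R₁ R₂, fun k _ φ hφ => ?_⟩
      by_cases hφc : φ c = 0
      · exact mono (le_max_right _ _) k φ (h₂ k φ (sup_le hφ ((Ideal.span_singleton_le_iff_mem _).2 hφc)))
      · exact mono (le_max_left _ _) k φ (h₁ k φ hφ hφc)
    · by_cases htop : I = ⊤
      · refine ⟨0, fun k _ φ hφ => absurd ?_ (RingHom.ker_ne_top φ)⟩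
        exact eq_top_iff.2 (htop ▸ hφ)
      · obtain ⟨a, ha, b, hb, hab⟩ : ∃ a ∉ I, ∃ b ∉ I, a * b ∈ I := by
          by_contra hne
          refine hI ⟨htop, fun {x y} hxy => ?_⟩
          by_contra hxy'
          obtain ⟨hx, hy⟩ := not_or.1 hxy'
          exact hne ⟨x, hx, y, hy, hxy⟩
        have hlt : ∀ c ∉ I, I < I ⊔ Ideal.span {c} := fun c hc =>
          lt_of_le_of_ne le_sup_left fun h => hc (h.ge (le_sup_right (α := Ideal A) (Ideal.mem_span_singleton_self c)))
        obtain ⟨R₁, h₁⟩ := ih _ (hlt a ha)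
        obtain ⟨R₂, h₂⟩ := ih _ (hlt b hb)
        refine ⟨max R₁ R₂, fun k _ φ hφ => ?_⟩
        have h0 : φ a * φ b = 0 := by rw [← map_mul]; exact hφ hab
        rcases mul_eq_zero.1 h0 with h | h
        · exact mono (le_max_left _ _) k φ (h₁ k φ (sup_le hφ ((Ideal.span_singleton_le_iff_mem _).2 h)))
        · exact mono (le_max_right _ _) k φ (h₂ k φ (sup_le hφ ((Ideal.span_singleton_le_iff_mem _).2 h)))

theorem totalDegree_map_le {σ : Type*} {R S : Type*} [CommSemiring R] [CommSemiring S] (φ : R →+* S)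
    (p : MvPolynomial σ R) : (map φ p).totalDegree ≤ p.totalDegree :=
  Finset.sup_mono (support_map_subset φ p)

/-- The monomials of the box of side `d`. -/
noncomputable def box (N d : ℕ) : Finset (Fin N →₀ ℕ) :=
  Finset.Iic (Finsupp.equivFunOnFinite.symm fun _ => d)

theorem mem_box {N d : ℕ} {R : Type u} [CommSemiring R] {p : MvPolynomial (Fin N) R} (hp : p.totalDegree ≤ d)
    {s : Fin N →₀ ℕ} (hs : s ∈ p.support) : s ∈ box N d := by
  refine Finset.mem_Iic.2 fun i => ?_
  simp only [Finsupp.equivFunOnFinite_symm_apply_apply]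
  refine le_trans ?_ ((le_totalDegree hs).trans hp)
  by_cases hi : i ∈ s.support
  · exact Finset.single_le_sum (f := fun j => s j) (fun j _ => Nat.zero_le _) hi
  · simp [Finsupp.notMem_support_iff.1 hi]

theorem eq_sum_box {N d : ℕ} {R : Type u} [CommSemiring R] {p : MvPolynomial (Fin N) R} (hp : p.totalDegree ≤ d) :
    ∑ s ∈ box N d, monomial s (coeff s p) = p := by
  classical
  conv_rhs => rw [p.as_sum]
  exact (Finset.sum_subset (fun s hs => mem_box hp hs) fun s _ hs => by
    rw [notMem_support_iff.1 hs, map_zero]).symm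

end Groth.Agent.H1Radical
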