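import Groth.Agent.H1Radical.Syzygy

/-!
# Uniform degree bound for contraction of ideals along finite field extensions
-/

set_option autoImplicit false
set_option linter.style.haveILetI false

universe u

open MvPolynomial

namespace Groth.Agent.H1Radical

variable {N : ℕ} {k L : Type u} [Field k] [Field L] [Algebra k L]

/-- A linear functional applied to the coefficients. -/
noncomputable def coeffwise (l : L →ₗ[k] k) : MvPolynomial (Fin N) L →+ MvPolynomial (Fin N) k where
  toFun p := ∑ s ∈ p.support, monomial s (l (coeff s p))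
  map_zero' := by simp
  map_add' p q := by
    classical
    ext m
    simp only [coeff_add, coeff_sum, coeff_monomial, Finset.sum_ite_eq']
    have key : ∀ r : MvPolynomial (Fin N) L, (if m ∈ r.support then l (coeff m r) else 0) = l (coeff m r) := fun r => by
      split_ifs with h
      · rfl
      · rw [notMem_support_iff.1 h, map_zero]
    rw [← coeff_add, key (p + q), key p, key q, coeff_add, map_add]

theorem coeff_coeffwise (l : L →ₗ[k] k) (p : MvPolynomial (Fin N) L) (m : Fin N →₀ ℕ) :
    coeff m (coeffwise l p) = l (coeff m p) := by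
  classical
  show coeff m (∑ s ∈ p.support, monomial s (l (coeff s p))) = _
  simp only [coeff_sum, coeff_monomial, Finset.sum_ite_eq']
  split_ifs with h
  · rfl
  · rw [notMem_support_iff.1 h, map_zero]

theorem coeffwise_map_mul (l : L →ₗ[k] k) (u : MvPolynomial (Fin N) k) (p : MvPolynomial (Fin N) L) :
    coeffwise l (map (algebraMap k L) u * p) = u * coeffwise l p := by
  classical
  ext m
  simp only [coeff_coeffwise, coeff_mul, map_sum, coeff_map]
  exact Finset.sum_congr rfl fun x _ => by rw [← Algebra.smul_def, map_smul, smul_eq_mul]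

theorem totalDegree_coeffwise_le (l : L →ₗ[k] k) (p : MvPolynomial (Fin N) L) :
    (coeffwise l p).totalDegree ≤ p.totalDegree := by
  refine Finset.sup_mono fun s hs => ?_
  rw [mem_support_iff, coeff_coeffwise] at hs
  exact mem_support_iff.2 fun h => hs (by rw [h, map_zero])

theorem sum_basis_coeffwise {m : ℕ} (b : Module.Basis (Fin m) k L) (p : MvPolynomial (Fin N) L) :
    ∑ j, C (b j) * map (algebraMap k L) (coeffwise (b.coord j) p) = p := by
  classical
  ext s
  simp only [coeff_sum, coeff_C_mul, coeff_map, coeff_coeffwise]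
  conv_rhs => rw [← b.sum_repr (coeff s p)]
  exact Finset.sum_congr rfl fun j _ => by rw [Module.Basis.coord_apply, Algebra.smul_def, mul_comm]

/-- Contractions of ideals given in bounded degree are given in bounded degree. -/
theorem contraction_bound (N m r d : ℕ) :
    ∃ R, ∀ (k L : Type u) [Field k] [Field L] [Algebra k L] (_ : Module.Basis (Fin m) k L)
      (h : Fin r → MvPolynomial (Fin N) L), (∀ i, (h i).totalDegree ≤ d) →
      ∀ f : MvPolynomial (Fin N) k, map (algebraMap k L) f ∈ Ideal.span (Set.range h) →
        f ∈ Ideal.span {q : MvPolynomial (Fin N) k |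
          map (algebraMap k L) q ∈ Ideal.span (Set.range h) ∧ q.totalDegree ≤ R} := by
  classical
  obtain ⟨R, hR⟩ := syzygy_bound.{u} N d (Option (Fin m × Fin r)) (Fin m)
  refine ⟨R, fun k L _ _ _ b h hh f hf => ?_⟩
  let M : Fin m → Option (Fin m × Fin r) → MvPolynomial (Fin N) k := fun j o =>
    o.elim (coeffwise (b.coord j) 1) fun p => coeffwise (b.coord j) (C (b p.1) * h p.2)
  have hM : ∀ j o, (M j o).totalDegree ≤ d := fun j o => by
    cases o with
    | none => exact (totalDegree_coeffwise_le _ _).trans (by simp)
    | some p =>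
      refine (totalDegree_coeffwise_le _ _).trans ((totalDegree_mul _ _).trans ?_)
      rw [totalDegree_C, zero_add]
      exact hh p.2
  have key : ∀ (w : Option (Fin m × Fin r) → MvPolynomial (Fin N) k) (j : Fin m),
      ∑ o, M j o * w o = coeffwise (b.coord j)
        (map (algebraMap k L) (w none) + ∑ p : Fin m × Fin r, map (algebraMap k L) (w (some p)) * (C (b p.1) * h p.2)) := by
    intro w j
    rw [map_add, map_sum, Fintype.sum_option]
    refine congrArg₂ (· + ·) ?_ (Finset.sum_congr rfl fun p _ => ?_)
    · rw [← mul_one (map (algebraMap k L) (w none)), coeffwise_map_mul, mul_comm]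
      rfl
    · rw [coeffwise_map_mul, mul_comm]
      rfl
  obtain ⟨q, hq⟩ := (Ideal.mem_span_range_iff_exists_fun).1 hf
  let v : Option (Fin m × Fin r) → MvPolynomial (Fin N) k := fun o =>
    o.elim f fun p => -coeffwise (b.coord p.1) (q p.2)
  have hv : ∀ j, ∑ o, M j o * v o = 0 := fun j => by
    rw [key]
    refine (congrArg _ ?_).trans (map_zero _)
    show map (algebraMap k L) f + ∑ p : Fin m × Fin r,
      map (algebraMap k L) (-coeffwise (b.coord p.1) (q p.2)) * (C (b p.1) * h p.2) = 0
    rw [← hq, Fintype.sum_prod_type_right, ← Finset.sum_add_distrib]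
    refine Finset.sum_eq_zero fun i _ => ?_
    conv_lhs => arg 1; rw [← sum_basis_coeffwise b (q i)]
    rw [Finset.sum_mul, ← Finset.sum_add_distrib]
    refine Finset.sum_eq_zero fun j _ => ?_
    rw [map_neg]
    ring
  have hspan := hR k M hM v hv
  have himg : ∀ w ∈ Submodule.span (MvPolynomial (Fin N) k)
      {w : Option (Fin m × Fin r) → MvPolynomial (Fin N) k |
        (∀ j, ∑ o, M j o * w o = 0) ∧ ∀ o, (w o).totalDegree ≤ R},
      w none ∈ Ideal.span {q : MvPolynomial (Fin N) k |
        map (algebraMap k L) q ∈ Ideal.span (Set.range h) ∧ q.totalDegree ≤ R} := by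
    intro w hw
    induction hw using Submodule.span_induction with
    | mem w hw =>
      refine Ideal.subset_span ⟨?_, hw.2 none⟩
      have h0 : map (algebraMap k L) (w none) +
          ∑ p : Fin m × Fin r, map (algebraMap k L) (w (some p)) * (C (b p.1) * h p.2) = 0 := by
        rw [← sum_basis_coeffwise b (map (algebraMap k L) (w none) + _)]
        exact Finset.sum_eq_zero fun j _ => by rw [← key w j, hw.1 j, map_zero, mul_zero]
      rw [eq_neg_of_add_eq_zero_left h0]
      exact neg_mem (sum_mem fun p _ => Ideal.mul_mem_left _ _ (Ideal.mul_mem_left _ _ (Ideal.subset_span ⟨p.2, rfl⟩)))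
    | zero => exact zero_mem _
    | add a c _ _ ha hc => exact add_mem ha hc
    | smul t a _ ha => exact Ideal.mul_mem_left _ t ha
  exact himg v hspan

/-- Membership in an ideal descends along a field extension. -/
theorem mem_span_of_map_mem {D : ℕ} (g : Fin D → MvPolynomial (Fin N) k) (f : MvPolynomial (Fin N) k)
    (hf : map (algebraMap k L) f ∈ Ideal.span (Set.range fun l => map (algebraMap k L) (g l))) :
    f ∈ Ideal.span (Set.range g) := by
  obtain ⟨l, hl⟩ := LinearMap.exists_leftInverse_of_injective (Algebra.linearMap k L)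
    (LinearMap.ker_eq_bot.2 (algebraMap k L).injective)
  have h1 : l 1 = 1 := by
    have h2 := congrArg (fun φ : k →ₗ[k] k => φ 1) hl
    simpa using h2
  have hl' : ∀ u : MvPolynomial (Fin N) k, coeffwise l (map (algebraMap k L) u) = u := fun u => by
    ext s
    rw [coeff_coeffwise, coeff_map, Algebra.algebraMap_eq_smul_one, map_smul, h1, smul_eq_mul, mul_one]
  obtain ⟨q, hq⟩ := (Ideal.mem_span_range_iff_exists_fun).1 hf
  have h3 : f = ∑ i, coeffwise l (q i) * g i := by
    conv_lhs => rw [← hl' f, ← hq, map_sum]
    exact Finset.sum_congr rfl fun i _ => by rw [mul_comm, coeffwise_map_mul, mul_comm]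
  rw [h3]
  exact sum_mem fun i _ => Ideal.mul_mem_left _ _ (Ideal.subset_span ⟨i, rfl⟩)

end Groth.Agent.H1Radical
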