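import Groth.Agent.H1Radical.Descent
import Groth.Agent.H1Spread.Stage
import Groth.Agent.H1Spread.Ideal
import Groth.Agent.FlatMisc.SpreadGeomRed

/-!
# Uniform degree bound for radicals of polynomial ideals
-/

set_option autoImplicit false
set_option linter.style.haveILetI false

universe u

open MvPolynomial TensorProduct

namespace Groth.Agent.H1Radical

/-- The radical of the ideal of the family `g` is generated in degree at most `R`. -/
def RadBound {N D : ℕ} (R : ℕ) (k : Type u) [Field k] (g : Fin D → MvPolynomial (Fin N) k) : Prop :=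
  ∀ f ∈ (Ideal.span (Set.range g)).radical,
    f ∈ Ideal.span {q : MvPolynomial (Fin N) k | q ∈ (Ideal.span (Set.range g)).radical ∧ q.totalDegree ≤ R}

theorem RadBound.mono {N D : ℕ} {R R' : ℕ} (h : R ≤ R') {k : Type u} [Field k]
    {g : Fin D → MvPolynomial (Fin N) k} (hg : RadBound R k g) : RadBound R' k g := by
  intro f hf
  refine Ideal.span_mono ?_ (hg f hf)
  intro q hq
  exact ⟨hq.1, hq.2.trans h⟩

section fibre

variable {N r : ℕ} {B : Type u} [CommRing B] (h : Fin r → MvPolynomial (Fin N) B) (L : Type u) [Field L] [Algebra B L]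
  {S : Type u} [CommRing S] [Algebra B S] (π : MvPolynomial (Fin N) B →ₐ[B] S)

theorem exists_ker_eq (hπ : Function.Surjective π) (hk : RingHom.ker π = Ideal.span (Set.range h)) :
    ∃ θ : MvPolynomial (Fin N) L →+* L ⊗[B] S,
      Function.Surjective θ ∧ RingHom.ker θ = Ideal.span (Set.range fun i => MvPolynomial.map (algebraMap B L) (h i)) := by
  let e := algebraTensorAlgEquiv (σ := Fin N) B L
  let μ := Algebra.TensorProduct.map (AlgHom.id B L) π
  have hμ : Function.Surjective μ := LinearMap.lTensor_surjective L (g := π.toLinearMap) hπ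
  refine ⟨μ.toRingHom.comp e.symm.toRingEquiv.toRingHom, hμ.comp e.symm.surjective, ?_⟩
  have hμk : RingHom.ker μ = (Ideal.span (Set.range h)).map
      (Algebra.TensorProduct.includeRight : MvPolynomial (Fin N) B →ₐ[B] L ⊗[B] MvPolynomial (Fin N) B) := by
    rw [← hk]
    exact Algebra.TensorProduct.lTensor_ker π hπ
  have himg : (RingHom.ker μ).map e.toRingEquiv.toRingHom =
      Ideal.span (Set.range fun i => MvPolynomial.map (algebraMap B L) (h i)) := by
    rw [hμk, Ideal.map_span, Ideal.map_span, ← Set.range_comp, ← Set.range_comp]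
    congr 1
    congr 1
    funext i
    show e (1 ⊗ₜ h i) = _
    rw [algebraTensorAlgEquiv_tmul, one_smul]
  rw [← himg]
  ext x
  show μ (e.symm x) = 0 ↔ _
  rw [show x ∈ (RingHom.ker μ).map e.toRingEquiv.toRingHom ↔ _ from Ideal.mem_map_of_equiv e.toRingEquiv x]
  exact ⟨fun h => ⟨_, h, e.apply_symm_apply x⟩, fun ⟨y, hy, hxy⟩ => by
    rw [show x = e y from hxy.symm, e.symm_apply_apply]; exact hy⟩

theorem isRadical_of_isReduced (hπ : Function.Surjective π) (hk : RingHom.ker π = Ideal.span (Set.range h))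
    [_root_.IsReduced (L ⊗[B] S)] :
    (Ideal.span (Set.range fun i => MvPolynomial.map (algebraMap B L) (h i))).IsRadical := by
  obtain ⟨θ, -, hθ⟩ := exists_ker_eq h L π hπ hk
  rw [← hθ]
  rintro x ⟨n, hn⟩
  exact IsReduced.eq_zero _ ⟨n, by rw [← map_pow]; exact hn⟩

theorem isReduced_of_isRadical (hπ : Function.Surjective π) (hk : RingHom.ker π = Ideal.span (Set.range h))
    (hr : (Ideal.span (Set.range fun i => MvPolynomial.map (algebraMap B L) (h i))).IsRadical) :
    _root_.IsReduced (L ⊗[B] S) := by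
  obtain ⟨θ, hs, hθ⟩ := exists_ker_eq h L π hπ hk
  refine ⟨fun z hz => ?_⟩
  obtain ⟨x, rfl⟩ := hs z
  obtain ⟨n, hn⟩ := hz
  have : x ∈ RingHom.ker θ := hθ ▸ hr ⟨n, hθ ▸ (show x ^ n ∈ RingHom.ker θ by rw [RingHom.mem_ker, map_pow, hn])⟩
  exact this

end fibre

theorem isGeometricallyReduced_of_isReduced {B S : Type u} [CommRing B] [CommRing S] [Algebra B S]
    (K : Type u) [Field K] [Algebra B K] (Ω : Type u) [Field Ω] [IsAlgClosed Ω] [Algebra B Ω] [Algebra K Ω]
    [IsScalarTower B K Ω] [_root_.IsReduced (Ω ⊗[B] S)] :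
    Algebra.IsGeometricallyReduced K (K ⊗[B] S) := by
  let AC := AlgebraicClosure K
  letI : Algebra AC Ω := (IsAlgClosed.lift : AC →ₐ[K] Ω).toRingHom.toAlgebra
  haveI : IsScalarTower B AC Ω := IsScalarTower.of_algebraMap_eq fun a => by
    show algebraMap B Ω a = (IsAlgClosed.lift : AC →ₐ[K] Ω) (algebraMap B AC a)
    rw [IsScalarTower.algebraMap_apply B K AC, AlgHom.commutes, ← IsScalarTower.algebraMap_apply]
  haveI : _root_.IsReduced (AC ⊗[B] S) :=
    isReduced_of_injective _ (FlatMisc.SpreadRed.map_injective_of_fields (A := B) AC Ω S)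
  rw [Algebra.isGeometricallyReduced_field_iff]
  exact isReduced_of_injective _ (Algebra.TensorProduct.cancelBaseChange B K AC AC S).injective

theorem exists_integral_lift {A Ω : Type u} [CommRing A] [IsDomain A] [Field Ω] [Algebra A Ω] [Algebra.IsAlgebraic A Ω]
    {N : ℕ} {ι : Type} [Fintype ι] (p : ι → MvPolynomial (Fin N) Ω) :
    ∃ a : A, a ≠ 0 ∧ ∀ i, ∀ t ∈ ((C (algebraMap A Ω a) * p i).coeffs : Set Ω), IsIntegral A t := by
  classical
  obtain ⟨a, ha, hint⟩ := Algebra.IsAlgebraic.exists_integral_multiples A (Finset.univ.biUnion fun i => (p i).coeffs)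
  refine ⟨a, ha, fun i t ht => ?_⟩
  obtain ⟨s, hs, rfl⟩ := mem_coeffs_iff.1 ht
  rw [coeff_C_mul, ← Algebra.smul_def]
  by_cases h0 : coeff s (p i) = 0
  · rw [h0, smul_zero]
    exact isIntegral_zero
  · exact hint _ (Finset.mem_biUnion.2 ⟨i, Finset.mem_univ i, coeff_mem_coeffs s h0⟩)

theorem exists_field_point {A B : Type u} [CommRing A] [IsDomain A] [CommRing B] [Algebra A B]
    [Algebra.IsIntegral A B] (hinj : Function.Injective (algebraMap A B))
    {n : ℕ} (G : Fin n → B) (hG : Submodule.span A (Set.range G) = ⊤) (k : Type u) [Field k] [Algebra A k] :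
    ∃ (L : Type u) (_ : Field L) (_ : Algebra k L) (ψ : B →+* L),
      ψ.comp (algebraMap A B) = (algebraMap k L).comp (algebraMap A k) ∧
      Module.Finite k L ∧ Module.finrank k L ≤ n := by
  classical
  obtain ⟨ψ⟩ := H1Spread.exists_algHom_integral B hinj (AlgebraicClosure k)
  let E := IntermediateField.adjoin k (Set.range ψ)
  have hspan : Subalgebra.toSubmodule E.toSubalgebra ≤ Submodule.span k (Set.range (ψ ∘ G)) := by
    rw [IntermediateField.adjoin_toSubalgebra_of_isAlgebraic (fun t _ => Algebra.IsAlgebraic.isAlgebraic t),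
      Algebra.adjoin_eq_span, Submodule.span_le]
    intro t ht
    obtain ⟨y, rfl⟩ : t ∈ Set.range ψ := by
      have : t ∈ MonoidHom.mrange (ψ : B →* AlgebraicClosure k) :=
        (Submonoid.closure_le (S := MonoidHom.mrange (ψ : B →* AlgebraicClosure k))).2 (fun _ hz => hz) ht
      exact this
    have hy : y ∈ Submodule.span A (Set.range G) := hG ▸ trivial
    obtain ⟨co, rfl⟩ := (Submodule.mem_span_range_iff_exists_fun A).1 hy
    rw [map_sum]
    refine sum_mem fun i _ => ?_
    rw [map_smul, Algebra.smul_def, IsScalarTower.algebraMap_apply A k (AlgebraicClosure k), ← Algebra.smul_def]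
    exact Submodule.smul_mem _ _ (Submodule.subset_span ⟨i, rfl⟩)
  haveI : Module.Finite k (Submodule.span k (Set.range (ψ ∘ G))) := Module.Finite.span_of_finite k (Set.finite_range _)
  refine ⟨E, inferInstance, inferInstance, ψ.toRingHom.codRestrict E (fun y => IntermediateField.subset_adjoin k _ ⟨y, rfl⟩),
    RingHom.ext fun a => Subtype.ext ?_, ?_, ?_⟩
  · show ψ (algebraMap A B a) = algebraMap k (AlgebraicClosure k) (algebraMap A k a)
    rw [ψ.commutes, IsScalarTower.algebraMap_apply A k (AlgebraicClosure k)]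
  · exact Module.Finite.of_injective (Submodule.inclusion hspan) (Submodule.inclusion_injective _)
  · exact (LinearMap.finrank_le_finrank_of_injective (f := Submodule.inclusion hspan)
      (Submodule.inclusion_injective _)).trans ((finrank_range_le_card (ψ ∘ G)).trans (by simp))

theorem radBound_generic {A : Type u} [CommRing A] [IsDomain A] [IsNoetherianRing A] {N D : ℕ}
    (g : Fin D → MvPolynomial (Fin N) A) :
    ∃ c : A, c ≠ 0 ∧ ∃ R, ∀ (k : Type u) [Field k] [Algebra A k], algebraMap A k c ≠ 0 →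
      RadBound R k (fun l => map (algebraMap A k) (g l)) := by
  classical
  let Ω := AlgebraicClosure (FractionRing A)
  haveI : Algebra.IsAlgebraic A (FractionRing A) := IsLocalization.isAlgebraic _ (nonZeroDivisors A)
  haveI : Algebra.IsAlgebraic A Ω := Algebra.IsAlgebraic.trans A (FractionRing A) Ω
  have hAΩ : Function.Injective (algebraMap A Ω) := by
    rw [IsScalarTower.algebraMap_eq A (FractionRing A) Ω]
    exact (algebraMap (FractionRing A) Ω).injective.comp (IsFractionRing.injective A _)
  let gΩ := fun l => map (algebraMap A Ω) (g l)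
  let J := (Ideal.span (Set.range gΩ)).radical
  obtain ⟨r, h₀, hh₀⟩ := Submodule.fg_iff_exists_fin_generating_family.1 (IsNoetherian.noetherian J)
  obtain ⟨a, ha, hint₁⟩ := exists_integral_lift (A := A) h₀
  let h := fun i => C (algebraMap A Ω a) * h₀ i
  have hua : IsUnit (C (algebraMap A Ω a) : MvPolynomial (Fin N) Ω) :=
    (isUnit_iff_ne_zero.2 fun h => ha (hAΩ (h.trans (map_zero _).symm))).map C
  have hh : Ideal.span (Set.range h) = J := by
    refine le_antisymm (Ideal.span_le.2 ?_) (hh₀.ge.trans (Submodule.span_le.2 ?_))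
    · rintro _ ⟨i, rfl⟩
      exact J.mul_mem_left _ (hh₀.le (Submodule.subset_span ⟨i, rfl⟩))
    · rintro _ ⟨i, rfl⟩
      obtain ⟨u, hu⟩ := hua
      have : h₀ i = (↑u⁻¹ : MvPolynomial (Fin N) Ω) * h i := by
        show _ = _ * (C (algebraMap A Ω a) * h₀ i)
        rw [← hu, ← mul_assoc, Units.inv_mul, one_mul]
      rw [this]
      exact Ideal.mul_mem_left _ _ (Ideal.subset_span ⟨i, rfl⟩)
  have hmem : ∀ i, ∃ e : ℕ, h i ^ e ∈ Ideal.span (Set.range gΩ) := fun i =>
    (hh.le (Ideal.subset_span ⟨i, rfl⟩) : h i ∈ J)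
  choose e he using hmem
  choose q hq using fun i => (Ideal.mem_span_range_iff_exists_fun).1 (he i)
  choose q' hq' using fun l => (Ideal.mem_span_range_iff_exists_fun).1
    (hh.ge (Ideal.le_radical (Ideal.subset_span ⟨l, rfl⟩)) : gΩ l ∈ Ideal.span (Set.range h))
  obtain ⟨b, hb, hint₂⟩ := exists_integral_lift (A := A)
    (Sum.elim (fun p : Fin r × Fin D => q p.1 p.2) fun p : Fin D × Fin r => q' p.1 p.2)
  let T : Finset Ω := (Finset.univ.biUnion fun i => (h i).coeffs) ∪
    ((Finset.univ.biUnion fun p : Fin r × Fin D => (C (algebraMap A Ω b) * q p.1 p.2).coeffs) ∪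
    (Finset.univ.biUnion fun p : Fin D × Fin r => (C (algebraMap A Ω b) * q' p.1 p.2).coeffs))
  have hT : ∀ t ∈ (T : Set Ω), IsIntegral A t := by
    intro t ht
    simp only [T, Finset.mem_coe, Finset.mem_union, Finset.mem_biUnion, Finset.mem_univ, true_and] at ht
    rcases ht with ⟨i, hi⟩ | ⟨p, hp⟩ | ⟨p, hp⟩
    · exact hint₁ i t hi
    · exact hint₂ (Sum.inl p) t hp
    · exact hint₂ (Sum.inr p) t hp
  let B := Algebra.adjoin A (T : Set Ω)
  haveI : Module.Finite A B := Module.Finite.iff_fg.2 (fg_adjoin_of_finite T.finite_toSet hT)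
  haveI : IsNoetherianRing B := isNoetherianRing_of_fg (Subalgebra.fg_adjoin_finset T)
  haveI : Algebra.IsIntegral A B := Algebra.IsIntegral.of_finite A B
  have hBinj : Function.Injective (algebraMap A B) := fun x y hxy => hAΩ (congrArg Subtype.val hxy)
  have hvalinj : Function.Injective (map (σ := Fin N) (algebraMap B Ω)) :=
    map_injective _ Subtype.val_injective
  have hlift : ∀ p : MvPolynomial (Fin N) Ω, p.coeffs ⊆ T → ∃ pB, map (algebraMap B Ω) pB = p := fun p hp =>
    (mem_range_map_iff_coeffs_subset (f := algebraMap B Ω)).2 fun t ht =>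
      ⟨⟨t, Algebra.subset_adjoin (hp ht)⟩, rfl⟩
  choose hB hhB using fun i => hlift (h i) fun t ht =>
    Finset.mem_union_left _ (Finset.mem_biUnion.2 ⟨i, Finset.mem_univ i, ht⟩)
  choose qB hqB using fun p : Fin r × Fin D => hlift (C (algebraMap A Ω b) * q p.1 p.2) fun t ht =>
    Finset.mem_union_right _ (Finset.mem_union_left _ (Finset.mem_biUnion.2 ⟨p, Finset.mem_univ p, ht⟩))
  choose qB' hqB' using fun p : Fin D × Fin r => hlift (C (algebraMap A Ω b) * q' p.1 p.2) fun t ht =>
    Finset.mem_union_right _ (Finset.mem_union_right _ (Finset.mem_biUnion.2 ⟨p, Finset.mem_univ p, ht⟩))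
  let gB := fun l => map (algebraMap A B) (g l)
  have hgB : ∀ l, map (algebraMap B Ω) (gB l) = gΩ l := fun l => by
    show MvPolynomial.map _ (MvPolynomial.map _ _) = _
    rw [MvPolynomial.map_map, ← IsScalarTower.algebraMap_eq]
  have id₁ : ∀ i, C (algebraMap A B b) * hB i ^ e i = ∑ l, qB (i, l) * gB l := fun i => hvalinj (by
    rw [map_mul, map_C, map_pow, hhB, ← IsScalarTower.algebraMap_apply, ← hq i, Finset.mul_sum, map_sum]
    exact Finset.sum_congr rfl fun l _ => by rw [map_mul, hqB, hgB, mul_assoc])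
  have id₂ : ∀ l, C (algebraMap A B b) * gB l = ∑ i, qB' (l, i) * hB i := fun l => hvalinj (by
    rw [map_mul, map_C, hgB, ← IsScalarTower.algebraMap_apply, ← hq' l, Finset.mul_sum, map_sum]
    exact Finset.sum_congr rfl fun i _ => by rw [map_mul, hqB', hhB, mul_assoc])
  haveI : Algebra.FiniteType B (MvPolynomial (Fin N) B ⧸ Ideal.span (Set.range hB)) :=
    Algebra.FiniteType.of_surjective (Ideal.Quotient.mkₐ B _) Ideal.Quotient.mk_surjective
  haveI : _root_.IsReduced (Ω ⊗[B] (MvPolynomial (Fin N) B ⧸ Ideal.span (Set.range hB))) := by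
    refine isReduced_of_isRadical hB Ω (Ideal.Quotient.mkₐ B _) Ideal.Quotient.mk_surjective Ideal.mk_ker ?_
    simp only [hhB]
    rw [hh]
    exact Ideal.radical_isRadical _
  let K := FractionRing B
  letI : Algebra K Ω := (IsFractionRing.lift (A := B) (g := algebraMap B Ω) Subtype.val_injective).toAlgebra
  haveI : IsScalarTower B K Ω := IsScalarTower.of_algebraMap_eq fun x =>
    (IsFractionRing.lift_algebraMap (A := B) (g := algebraMap B Ω) Subtype.val_injective x).symm
  haveI := isGeometricallyReduced_of_isReduced (B := B)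
    (S := MvPolynomial (Fin N) B ⧸ Ideal.span (Set.range hB)) K Ω
  obtain ⟨cB, hcB, hred⟩ := FlatMisc.SpreadRed.exists_reduced_near (R := B)
    (S := MvPolynomial (Fin N) B ⧸ Ideal.span (Set.range hB)) K
  obtain ⟨cA, hcA, hcA0⟩ := Submodule.exists_mem_ne_zero_of_ne_bot
    (Ideal.comap_ne_bot_of_integral_mem (R := A) hcB (Ideal.mem_span_singleton_self cB)
      (Algebra.IsIntegral.isIntegral cB))
  obtain ⟨n, G, hG⟩ := Module.Finite.exists_fin (R := A) (M := B)
  choose Rm hRm using fun m => contraction_bound.{u} N m r (Finset.univ.sup fun i => (hB i).totalDegree)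
  refine ⟨b * cA, mul_ne_zero hb hcA0, (Finset.range (n + 1)).sup Rm, fun k _ _ hk => ?_⟩
  rw [map_mul] at hk
  obtain ⟨L, _, _, ψ, hψ, hfin, hrank⟩ := exists_field_point hBinj G hG k
  haveI := hfin
  letI : Algebra B L := ψ.toAlgebra
  have hψ' : ∀ x, algebraMap B L (algebraMap A B x) = algebraMap k L (algebraMap A k x) := fun x =>
    RingHom.congr_fun hψ x
  have hgk : ∀ l, map (algebraMap B L) (gB l) = map (algebraMap k L) (map (algebraMap A k) (g l)) := fun l => by
    show MvPolynomial.map _ (MvPolynomial.map _ _) = _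
    rw [MvPolynomial.map_map, MvPolynomial.map_map]
    exact congrArg (fun φ => MvPolynomial.map φ (g l)) hψ
  have hcL : algebraMap B L cB ≠ 0 := by
    obtain ⟨y, hy⟩ := Ideal.mem_span_singleton'.1 (show algebraMap A B cA ∈ Ideal.span {cB} from hcA)
    intro h0
    have h1 : algebraMap k L (algebraMap A k cA) = 0 := by rw [← hψ', ← hy, map_mul, h0, mul_zero]
    exact right_ne_zero_of_mul hk ((map_eq_zero _).1 h1)
  haveI := hred L hcL
  have hbL : IsUnit (C (algebraMap B L (algebraMap A B b)) : MvPolynomial (Fin N) L) := by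
    refine (isUnit_iff_ne_zero.2 ?_).map C
    rw [hψ']
    exact (map_ne_zero _).2 (left_ne_zero_of_mul hk)
  let hL := fun i => map (algebraMap B L) (hB i)
  let gk := fun l => map (algebraMap A k) (g l)
  let gL := fun l => map (algebraMap k L) (gk l)
  have hrad : (Ideal.span (Set.range gL)).radical = Ideal.span (Set.range hL) := by
    refine le_antisymm ?_ (Ideal.span_le.2 ?_)
    · refine (Ideal.radical_mono (Ideal.span_le.2 ?_)).trans (isRadical_of_isReduced hB L (Ideal.Quotient.mkₐ B _) Ideal.Quotient.mk_surjective Ideal.mk_ker)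
      rintro _ ⟨l, rfl⟩
      have := congrArg (map (algebraMap B L)) (id₂ l)
      rw [map_mul, map_C, hgk, map_sum] at this
      refine (Ideal.unit_mul_mem_iff_mem _ hbL).1 ?_
      show _ * map (algebraMap k L) (map (algebraMap A k) (g l)) ∈ _
      rw [this]
      exact sum_mem fun i _ => by rw [map_mul]; exact Ideal.mul_mem_left _ _ (Ideal.subset_span ⟨i, rfl⟩)
    · rintro _ ⟨i, rfl⟩
      refine ⟨e i, (Ideal.unit_mul_mem_iff_mem _ hbL).1 ?_⟩
      have := congrArg (map (algebraMap B L)) (id₁ i)
      rw [map_mul, map_C, map_pow, map_sum] at this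
      rw [this]
      exact sum_mem fun l _ => by
        rw [map_mul, hgk]; exact Ideal.mul_mem_left _ _ (Ideal.subset_span ⟨l, rfl⟩)
  have hmapI : (Ideal.span (Set.range gk)).map (map (algebraMap k L)) = Ideal.span (Set.range gL) := by
    rw [Ideal.map_span, ← Set.range_comp]; rfl
  have hback : ∀ p, map (algebraMap k L) p ∈ Ideal.span (Set.range hL) ↔ p ∈ (Ideal.span (Set.range gk)).radical := by
    intro p
    rw [← hrad]
    constructor
    · rintro ⟨j, hj⟩
      exact ⟨j, mem_span_of_map_mem gk _ (by rw [map_pow]; exact hj)⟩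
    · rintro ⟨j, hj⟩
      refine ⟨j, ?_⟩
      rw [← map_pow, ← hmapI]
      exact Ideal.mem_map_of_mem _ hj
  intro f hf
  have hbnd := hRm (Module.finrank k L) k L (Module.finBasis k L) hL
    (fun i => (totalDegree_map_le _ _).trans (Finset.le_sup (f := fun i => (hB i).totalDegree) (Finset.mem_univ i)))
    f ((hback f).2 hf)
  refine Ideal.span_mono ?_ hbnd
  intro p hp
  exact ⟨(hback p).1 hp.1, hp.2.trans (Finset.le_sup (Finset.mem_range.2 (Nat.lt_succ_of_le hrank)))⟩

theorem radical_bound (N d : ℕ) :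
    ∃ R, ∀ (k : Type u) [Field k] (S : Set (MvPolynomial (Fin N) k)), (∀ p ∈ S, p.totalDegree ≤ d) →
      ∀ f ∈ (Ideal.span S).radical,
        f ∈ Ideal.span {q : MvPolynomial (Fin N) k | q ∈ (Ideal.span S).radical ∧ q.totalDegree ≤ R} := by
  classical
  let D := (box N d).card
  let V : Type u := ULift.{u} (Fin D × box N d)
  haveI : IsNoetherianRing (ULift.{u} ℤ) := isNoetherianRing_of_ringEquiv ℤ ULift.ringEquiv.symm
  let A := MvPolynomial V (ULift.{u} ℤ)
  let g₀ : Fin D → MvPolynomial (Fin N) A := fun l => ∑ s : box N d, monomial s.1 (X (⟨(l, s)⟩ : V))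
  obtain ⟨R, hR⟩ := exists_bound (A := A) (fun R k _ φ => RadBound R k fun l => map φ (g₀ l))
    (fun h k _ φ hg => hg.mono h) fun p hp => by
      let B := A ⧸ p
      obtain ⟨c, hc, R, hR⟩ := radBound_generic (A := B) fun l => map (Ideal.Quotient.mk p) (g₀ l)
      obtain ⟨c, rfl⟩ := Ideal.Quotient.mk_surjective c
      refine ⟨c, fun h => hc (Ideal.Quotient.eq_zero_iff_mem.2 h), R, fun k _ φ hφ hφc => ?_⟩
      letI : Algebra B k := (Ideal.Quotient.lift p φ hφ).toAlgebra
      have h := hR k hφc
      simp only [MvPolynomial.map_map] at h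
      exact h
  refine ⟨R, fun k _ S hS => ?_⟩
  let W : Submodule k (MvPolynomial (Fin N) k) := restrictSupport k (box N d : Set (Fin N →₀ ℕ))
  have hSW : Submodule.span k S ≤ W := Submodule.span_le.2 fun p hp => fun s hs => mem_box (hS p hp) hs
  haveI : Module.Finite k W := Module.Finite.of_basis (basisRestrictSupport k _)
  haveI : Module.Finite k (Submodule.span k S) :=
    Module.Finite.of_injective (Submodule.inclusion hSW) (Submodule.inclusion_injective _)
  have hle : Module.finrank k (Submodule.span k S) ≤ D := by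
    refine (LinearMap.finrank_le_finrank_of_injective (f := Submodule.inclusion hSW)
      (Submodule.inclusion_injective _)).trans (le_of_eq ?_)
    rw [Module.finrank_eq_card_basis (basisRestrictSupport k (box N d : Set (Fin N →₀ ℕ)))]
    simp [D]
  let bS := Module.finBasis k (Submodule.span k S)
  let G : Fin D → MvPolynomial (Fin N) k := fun l =>
    if hl : (l : ℕ) < Module.finrank k (Submodule.span k S) then (bS ⟨l, hl⟩).1 else 0
  have hG : ∀ l, (G l).totalDegree ≤ N * d ∧ ∀ s ∈ (G l).support, s ∈ box N d := fun l => by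
    have hmem : G l ∈ W := by
      simp only [G]
      split_ifs with hl
      · exact hSW (bS ⟨l, hl⟩).2
      · exact zero_mem _
    refine ⟨Finset.sup_le fun s hs => ?_, fun s hs => hmem hs⟩
    refine (Finset.sum_le_univ_sum_of_nonneg fun _ => Nat.zero_le _).trans ?_
    exact (Finset.sum_le_sum fun i _ => (Finset.mem_Iic.1 (hmem hs) i :)).trans (by simp)
  let φ : A →+* k := eval₂Hom ((Int.castRingHom k).comp (ULift.ringEquiv : ULift.{u} ℤ ≃+* ℤ).toRingHom)
    fun v => coeff v.down.2.1 (G v.down.1)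
  have e : (fun l => map φ (g₀ l)) = G := funext fun l => by
    simp only [g₀, map_sum, map_monomial, φ, eval₂Hom_X']
    refine Eq.trans ?_ ((G l).as_sum).symm
    refine Eq.trans (Finset.sum_congr rfl fun x _ => congrArg _ (eval₂Hom_X' _ _ _)) ?_
    refine Eq.trans (Finset.sum_coe_sort (box N d) fun s => monomial s (coeff s (G l))) ?_
    exact (Finset.sum_subset (hG l).2 fun s _ hs => by rw [notMem_support_iff.1 hs, map_zero]).symm
  have hspan : Ideal.span (Set.range G) = Ideal.span S := by
    refine le_antisymm (Ideal.span_le.2 ?_) (Ideal.span_le.2 fun p hp => ?_)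
    · rintro _ ⟨l, rfl⟩
      simp only [G]
      split_ifs with hl
      · exact Submodule.span_le_restrictScalars k (MvPolynomial (Fin N) k) S (bS ⟨l, hl⟩).2
      · exact zero_mem _
    · have h1 : (⟨p, Submodule.subset_span hp⟩ : Submodule.span k S) = ∑ i, bS.repr _ i • bS i := (bS.sum_repr _).symm
      have h2 := congrArg (Submodule.span k S).subtype h1
      simp only [Submodule.subtype_apply, map_sum, map_smul] at h2
      show p ∈ Ideal.span (Set.range G)
      rw [h2]
      refine sum_mem fun i _ => ?_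
      rw [Algebra.smul_def]
      exact Ideal.mul_mem_left _ _ (Ideal.subset_span ⟨⟨i, i.2.trans_le hle⟩, by simp [G, i.2]⟩)
  have h := hR k φ
  simp only [e, RadBound, hspan] at h
  exact h

end Groth.Agent.H1Radical
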