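import Groth.Agent.H1Radical.Bound
import Groth.Agent.FlatMisc.SpreadRed

/-!
# Uniform degree bound for syzygies over fields
-/

set_option autoImplicit false
set_option linter.style.haveILetI false

universe u

open MvPolynomial TensorProduct

namespace Groth.Agent.H1Radical

/-- The kernel of the matrix `M` is generated by vectors of degree at most `R`. -/
def SyzBound {N : ℕ} {ι κ : Type} [Fintype ι] (R : ℕ) (k : Type u) [Field k]
    (M : κ → ι → MvPolynomial (Fin N) k) : Prop :=
  ∀ v : ι → MvPolynomial (Fin N) k, (∀ j, ∑ i, M j i * v i = 0) →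
    v ∈ Submodule.span (MvPolynomial (Fin N) k)
      {w : ι → MvPolynomial (Fin N) k | (∀ j, ∑ i, M j i * w i = 0) ∧ ∀ i, (w i).totalDegree ≤ R}

theorem SyzBound.mono {N : ℕ} {ι κ : Type} [Fintype ι] {R R' : ℕ} (h : R ≤ R') {k : Type u} [Field k]
    {M : κ → ι → MvPolynomial (Fin N) k} (hM : SyzBound R k M) : SyzBound R' k M := by
  intro v hv
  refine Submodule.span_mono ?_ (hM v hv)
  intro w hw
  exact ⟨hw.1, fun i => (hw.2 i).trans h⟩

section generic

variable {N : ℕ} {A : Type u} [CommRing A]

/-- Vectors of polynomials over an algebra. -/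
noncomputable def vecEquiv (L : Type u) [CommRing L] [Algebra A L] (ι : Type) [Fintype ι] [DecidableEq ι] :
    L ⊗[A] (ι → MvPolynomial (Fin N) A) ≃ₗ[L] (ι → MvPolynomial (Fin N) L) :=
  (TensorProduct.piRight A L L fun _ : ι => MvPolynomial (Fin N) A).trans
    (LinearEquiv.piCongrRight fun _ => (algebraTensorAlgEquiv A L).toLinearEquiv)

theorem vecEquiv_tmul (L : Type u) [CommRing L] [Algebra A L] {ι : Type} [Fintype ι] [DecidableEq ι] (l : L)
    (v : ι → MvPolynomial (Fin N) A) (i : ι) :
    vecEquiv L ι (l ⊗ₜ[A] v) i = C l * map (algebraMap A L) (v i) := by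
  rw [← smul_eq_C_mul]
  show (algebraTensorAlgEquiv A L) (TensorProduct.piRight A L L _ (l ⊗ₜ[A] v) i) = _
  rw [TensorProduct.piRight_apply, TensorProduct.piRightHom_tmul, algebraTensorAlgEquiv_tmul]

theorem syzBound_generic [IsDomain A] [IsNoetherianRing A] {ι κ : Type} [Fintype ι] [Fintype κ]
    (M : κ → ι → MvPolynomial (Fin N) A) :
    ∃ c : A, c ≠ 0 ∧ ∃ R, ∀ (L : Type u) [Field L] [Algebra A L], algebraMap A L c ≠ 0 →
      SyzBound R L (fun j i => map (algebraMap A L) (M j i)) := by
  classical
  let T := MvPolynomial (Fin N) A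
  let Φ : (ι → T) →ₗ[T] (κ → T) :=
    { toFun := fun v j => ∑ i, M j i * v i
      map_add' := fun v w => funext fun j => by simp [mul_add, Finset.sum_add_distrib]
      map_smul' := fun t v => funext fun j => by
        simp only [Pi.smul_apply, smul_eq_mul, RingHom.id_apply, Finset.mul_sum]
        show _ = t * ∑ i, M j i * v i
        rw [Finset.mul_sum]
        exact Finset.sum_congr rfl fun i _ => mul_left_comm (M j i) t (v i) }
  let Im := LinearMap.range Φ
  obtain ⟨c, hc, hI, -, -, -⟩ := Groth.Agent.GenFreeRed.exists_isGood A T Im 1 one_ne_zero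
  rw [one_mul] at hc hI
  obtain ⟨d, hd, hQ, -, -, -⟩ := Groth.Agent.GenFreeRed.exists_isGood A T ((κ → T) ⧸ Im) c hc
  obtain ⟨n, g, hg⟩ := Submodule.fg_iff_exists_fin_generating_family.1 (IsNoetherian.noetherian (LinearMap.ker Φ))
  refine ⟨c * d, hd, Finset.univ.sup fun j => Finset.univ.sup fun i => (g j i).totalDegree,
    fun L _ _ hL v hv => ?_⟩
  haveI := hI
  haveI := hQ
  haveI := Groth.Agent.FlatMisc.SpreadRed.free_baseChange (c * d) ((κ → T) ⧸ Im)
  haveI : Module.Free (Localization.Away (c * d)) (Localization.Away (c * d) ⊗[A] Im) := by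
    haveI := Groth.Agent.FlatMisc.SpreadRed.free_baseChange c Im
    have hu : IsUnit (algebraMap A (Localization.Away (c * d)) c) :=
      isUnit_of_mul_isUnit_left (by rw [← map_mul]; exact IsLocalization.Away.algebraMap_isUnit (c * d))
    letI := (IsLocalization.Away.lift (S := Localization.Away c) c hu).toAlgebra
    haveI : IsScalarTower A (Localization.Away c) (Localization.Away (c * d)) :=
      IsScalarTower.of_algebraMap_eq fun x => (IsLocalization.Away.lift_eq c hu x).symm
    exact Module.Free.of_equiv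
      (AlgebraTensorModule.cancelBaseChange A (Localization.Away c) (Localization.Away (c * d))
        (Localization.Away (c * d)) Im)
  let ΦA : (ι → T) →ₗ[A] (κ → T) := Φ.restrictScalars A
  let fA : Im →ₗ[A] (κ → T) := Im.subtype.restrictScalars A
  let rA : (ι → T) →ₗ[A] Im := Φ.rangeRestrict.restrictScalars A
  let kA : LinearMap.ker Φ →ₗ[A] (ι → T) := (LinearMap.ker Φ).subtype.restrictScalars A
  have hex : Function.Exact fA (Im.mkQ.restrictScalars A) := LinearMap.exact_subtype_mkQ Im
  have hinj : Function.Injective (fA.lTensor L) :=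
    Groth.Agent.FlatMisc.SpreadRed.lTensor_injective_near (c * d) hd fA (Im.mkQ.restrictScalars A) hex
      (Submodule.mkQ_surjective Im) (FractionRing A) (IsFractionRing.injective A (FractionRing A))
      (Module.Flat.lTensor_preserves_injective_linearMap fA Subtype.val_injective) L hL
  have key : ∀ z : L ⊗[A] (ι → T), ∀ j, vecEquiv L κ (ΦA.lTensor L z) j =
      ∑ i, map (algebraMap A L) (M j i) * vecEquiv L ι z i := fun z => by
    induction z using TensorProduct.induction_on with
    | zero => intro j; simp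
    | tmul l w =>
      intro j
      rw [LinearMap.lTensor_tmul, vecEquiv_tmul]
      show C l * map (algebraMap A L) (∑ i, M j i * w i) = _
      rw [map_sum, Finset.mul_sum]
      refine Finset.sum_congr rfl fun i _ => ?_
      rw [map_mul, vecEquiv_tmul]
      ring
    | add a b ha hb =>
      intro j
      simp only [map_add, Pi.add_apply, ha, hb, mul_add, Finset.sum_add_distrib]
  obtain ⟨z, rfl⟩ := (vecEquiv (N := N) (A := A) L ι).surjective v
  have hz : rA.lTensor L z = 0 := hinj (by
    rw [map_zero, ← LinearMap.comp_apply, ← LinearMap.lTensor_comp, show fA ∘ₗ rA = ΦA from rfl]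
    exact (vecEquiv (N := N) (A := A) L κ).injective (funext fun j => by rw [key, hv j, map_zero, Pi.zero_apply]))
  obtain ⟨y, rfl⟩ := (lTensor_exact (R := A) L (f := kA) (g := rA)
    (fun w => by
      show Φ.rangeRestrict w = 0 ↔ _
      exact ⟨fun h => ⟨⟨w, congrArg Subtype.val h⟩, rfl⟩, fun ⟨u, hu⟩ => hu ▸ Subtype.ext u.2⟩)
    Φ.surjective_rangeRestrict _).1 hz
  let P := Submodule.span (MvPolynomial (Fin N) L)
    {w : ι → MvPolynomial (Fin N) L | (∀ j, ∑ i, map (algebraMap A L) (M j i) * w i = 0) ∧
      ∀ i, (w i).totalDegree ≤ Finset.univ.sup fun j => Finset.univ.sup fun i => (g j i).totalDegree}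
  have hgen : ∀ (w : ι → T), w ∈ LinearMap.ker Φ → (fun i => map (algebraMap A L) (w i)) ∈ P := by
    intro w hw
    rw [← hg] at hw
    induction hw using Submodule.span_induction with
    | mem w hw =>
      obtain ⟨m, rfl⟩ := hw
      refine Submodule.subset_span ⟨fun j => ?_, fun i => (totalDegree_map_le _ _).trans ?_⟩
      · have h0 : Φ (g m) = 0 := by
          have : g m ∈ LinearMap.ker Φ := hg ▸ Submodule.subset_span ⟨m, rfl⟩
          exact this
        have h1 := congrArg (map (algebraMap A L)) (congrFun h0 j)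
        simpa [Φ, map_sum] using h1
      · exact le_trans (Finset.le_sup (f := fun i => (g m i).totalDegree) (Finset.mem_univ i))
          (Finset.le_sup (f := fun j => Finset.univ.sup fun i => (g j i).totalDegree) (Finset.mem_univ m))
    | zero => simp only [Pi.zero_apply, map_zero]; exact zero_mem P
    | add a b _ _ ha hb =>
      simp only [Pi.add_apply, map_add]
      exact add_mem ha hb
    | smul t a _ ha =>
      simp only [Pi.smul_apply, smul_eq_mul, map_mul]
      exact P.smul_mem (map (algebraMap A L) t) ha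
  show vecEquiv (N := N) (A := A) L ι (kA.lTensor L y) ∈ P
  clear hv hz
  induction y using TensorProduct.induction_on with
  | zero => simp only [map_zero]; exact zero_mem P
  | tmul l w =>
    rw [LinearMap.lTensor_tmul]
    have : vecEquiv L ι (l ⊗ₜ[A] kA w) = (C l : MvPolynomial (Fin N) L) • fun i => map (algebraMap A L) (w.1 i) :=
      funext fun i => vecEquiv_tmul L l _ i
    rw [this]
    exact P.smul_mem _ (hgen _ w.2)
  | add a b ha hb =>
    simp only [map_add]
    exact add_mem ha hb

end generic

theorem syzygy_bound (N d : ℕ) (ι κ : Type) [Fintype ι] [Fintype κ] :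
    ∃ R, ∀ (k : Type u) [Field k] (M : κ → ι → MvPolynomial (Fin N) k),
      (∀ j i, (M j i).totalDegree ≤ d) → SyzBound R k M := by
  classical
  let V : Type u := ULift.{u} (κ × ι × box N d)
  haveI : IsNoetherianRing (ULift.{u} ℤ) := isNoetherianRing_of_ringEquiv ℤ ULift.ringEquiv.symm
  let A := MvPolynomial V (ULift.{u} ℤ)
  let M₀ : κ → ι → MvPolynomial (Fin N) A := fun j i =>
    ∑ s : box N d, monomial s.1 (X (⟨(j, i, s)⟩ : V))
  obtain ⟨R, hR⟩ := exists_bound (A := A) (fun R k _ φ => SyzBound R k fun j i => map φ (M₀ j i))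
    (fun h k _ φ hM => hM.mono h) fun p hp => by
      let B := A ⧸ p
      obtain ⟨c, hc, R, hR⟩ := syzBound_generic (A := B) fun j i => map (Ideal.Quotient.mk p) (M₀ j i)
      obtain ⟨c, rfl⟩ := Ideal.Quotient.mk_surjective c
      refine ⟨c, fun h => hc (Ideal.Quotient.eq_zero_iff_mem.2 h), R, fun k _ φ hφ hφc => ?_⟩
      letI : Algebra B k := (Ideal.Quotient.lift p φ hφ).toAlgebra
      have h := hR k hφc
      simp only [MvPolynomial.map_map] at h
      exact h
  refine ⟨R, fun k _ M hM => ?_⟩
  let φ : A →+* k := eval₂Hom ((Int.castRingHom k).comp (ULift.ringEquiv : ULift.{u} ℤ ≃+* ℤ).toRingHom)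
    fun v => coeff v.down.2.2.1 (M v.down.1 v.down.2.1)
  have h := hR k φ
  have e : (fun j i => map φ (M₀ j i)) = M := funext fun j => funext fun i => by
    simp only [M₀, map_sum, map_monomial, φ, eval₂Hom_X']
    refine Eq.trans ?_ (eq_sum_box (hM j i))
    rw [← Finset.sum_coe_sort (box N d)]
    exact Finset.sum_congr rfl fun s _ => congrArg _ (eval₂Hom_X' _ _ _)
  rwa [e] at h

end Groth.Agent.H1Radical
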